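import Cfsg.Agent.Helper19.Stein.ChevIrr

/-!
# The Steinberg character of a finite group with a `(B, N)`-pair

For a finite group `G` with a `(B, N)`-pair `P`, the alternating sum `stFun P` of the permutation
characters on the cosets of the standard parabolic subgroups is an irreducible character; its
restriction to `B` is the permutation character on `B / (B ∩ B^{n₀})`, `n₀` a representative of
the longest element.
-/

set_option autoImplicit false
set_option maxRecDepth 100000

namespace Cfsg.Agent.Helper19.StBN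

open Cfsg Cfsg.Agent.Helper6 Cfsg.Agent.Helper18 Cfsg.Agent.Helper19.Cox Cfsg.Agent.Helper19.Poinc
  Cfsg.Agent.Helper19.Stein DoubleCoset
open scoped ComplexConjugate

variable {G : Type*} [Group G] (P : Cfsg.BNPair G)

open Classical in
/-- the alternating sum of the parabolic permutation characters -/
noncomputable def stFun [Fintype P.S] : G → ℂ :=
  ∑ J' ∈ (Finset.univ : Finset P.S).powerset,
    ((-1 : ℂ) ^ J'.card) • fixedPointCharacter (P.parabolic (Subtype.val '' (↑J' : Set P.S)))

open Classical in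
theorem stFun_apply [Fintype P.S] (g : G) :
    stFun P g = ∑ J' ∈ (Finset.univ : Finset P.S).powerset,
      (-1 : ℂ) ^ J'.card * fixedPointCharacter (P.parabolic (Subtype.val '' (↑J' : Set P.S))) g := by
  unfold stFun
  rw [Finset.sum_apply]
  rfl

/-- `stFun` has norm one -/
theorem classInner_stFun [Fintype G] [Fintype P.S] :
    classInner (stFun P) (stFun P) = 1 := by
  classical
  unfold stFun
  rw [Helper74.classInner_sum_left]
  simp only [Helper74.classInner_sum_right, Helper74.classInner_smul_left,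
    Helper74.classInner_smul_right, Cfsg.Agent.Helper42.Unip.classInner_fixedPoint]
  have hconj : ∀ k : ℕ, conj ((-1 : ℂ) ^ k) = (-1 : ℂ) ^ k := by
    intro k; simp
  simp only [hconj]
  have h := Cfsg.Agent.Helper31.SteinX2c.alternating_sum_orbits P
  have h1 : Nat.card {d : P.N ⧸ (P.B ⊓ P.N).subgroupOf P.N // MaxL (wf P) d ∧ MaxR (wf P) d} = 1 :=
    card_maxLR (exchData_wf P)
  rw [h1] at h
  rw [Nat.cast_one] at h
  refine Eq.trans ?_ h
  refine Finset.sum_congr rfl fun J _ => Finset.sum_congr rfl fun K _ => ?_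
  ring

/-- `stFun` is a generalized character -/
theorem stFun_isGenChar [Finite G] [Fintype P.S] : IsGeneralizedCharacter G (stFun P) := by
  classical
  have : Fintype G := Fintype.ofFinite _
  unfold stFun
  refine Helper25.isGenChar_sum _ fun J _ => ?_
  have e : ((-1 : ℂ) ^ J.card) • fixedPointCharacter (P.parabolic (Subtype.val '' (↑J : Set P.S))) =
      ((-1 : ℤ) ^ J.card) • fixedPointCharacter (P.parabolic (Subtype.val '' (↑J : Set P.S))) := by
    funext g
    simp
  rw [e]
  refine Helper25.isGenChar_zsmul _ (Helper25.isGenChar_of_isCharacter ?_)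
  have : Fintype (G ⧸ P.parabolic (Subtype.val '' (↑J : Set P.S))) := Fintype.ofFinite _
  exact (Cfsg.Agent.Helper12.PermCharBasics.permChar_isCharacter :
    IsCharacter _ (Cfsg.Agent.Helper12.PermCharBasics.permChar G
      (G ⧸ P.parabolic (Subtype.val '' (↑J : Set P.S)))))

/-- the restriction of `stFun` to `B` is the permutation character on `B / H`, where
`H = B ∩ n₀ B n₀⁻¹` for a representative `n₀` of the longest element -/
theorem stFun_restrict [Finite G] [Fintype P.S] (n₀ : G) (hn₀ : n₀ ∈ P.N)
    (hmax : MaxR (wf P) (mkW P n₀ hn₀)) (H : Subgroup G)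
    (hH : ∀ u ∈ P.B, n₀⁻¹ * u * n₀ ∈ P.B ↔ u ∈ H) (b : ↥P.B) :
    stFun P (b : G) = fixedPointCharacter (H.subgroupOf P.B) b := by
  classical
  rw [stFun_apply]
  simp only [fixedPointCharacter]
  rw [Cfsg.Agent.Helper76.SteinX2b.alternating_sum_fixedBy P b.2,
    ← Cfsg.Agent.Helper55.SteinX3b.card_fixedBy_orbit P.B _ n₀ hH b]
  congr 1
  apply Nat.card_congr
  apply Equiv.subtypeEquivRight
  intro x
  rw [maxR_iff P n₀ hn₀ hmax x]

/-- the degree of `stFun` -/
theorem stFun_one [Finite G] [Fintype P.S] (n₀ : G) (hn₀ : n₀ ∈ P.N)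
    (hmax : MaxR (wf P) (mkW P n₀ hn₀)) (H : Subgroup G)
    (hH : ∀ u ∈ P.B, n₀⁻¹ * u * n₀ ∈ P.B ↔ u ∈ H) :
    stFun P 1 = ((H.subgroupOf P.B).index : ℂ) := by
  have h := stFun_restrict P n₀ hn₀ hmax H hH 1
  rw [fixedPointCharacter_one] at h
  exact h

/-- `stFun` is an irreducible character -/
theorem stFun_isIrr [Finite G] [Fintype P.S] (n₀ : G) (hn₀ : n₀ ∈ P.N)
    (hmax : MaxR (wf P) (mkW P n₀ hn₀)) (H : Subgroup G)
    (hH : ∀ u ∈ P.B, n₀⁻¹ * u * n₀ ∈ P.B ↔ u ∈ H) :
    IsIrrCharacter G (stFun P) := by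
  have : Fintype G := Fintype.ofFinite _
  obtain ⟨θ, h | h⟩ := Helper75.vc_pm_irr (stFun_isGenChar P) (classInner_stFun P)
  · rw [h]; exact θ.2
  · exfalso
    obtain ⟨d, hd⟩ := Helper74.isCharacter_apply_one (Helper74.irr_isCharacter θ)
    have hdeg := stFun_one P n₀ hn₀ hmax H hH
    rw [h, Pi.neg_apply, hd] at hdeg
    have h1 : (((H.subgroupOf P.B).index + d : ℕ) : ℂ) = 0 := by
      push_cast
      linear_combination -hdeg
    have h2 := Nat.cast_eq_zero.mp h1
    have h3 : 0 < (H.subgroupOf P.B).index := Nat.pos_of_ne_zero Subgroup.index_ne_zero_of_finite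
    omega

/-- a central element lying in `B` acts trivially -/
theorem stFun_central [Fintype P.S] {z : G} (hz : z ∈ Subgroup.center G) (hzB : z ∈ P.B) :
    stFun P z = stFun P 1 := by
  classical
  rw [stFun_apply, stFun_apply]
  refine Finset.sum_congr rfl fun J _ => ?_
  congr 1
  unfold fixedPointCharacter
  have hfix : MulAction.fixedBy (G ⧸ P.parabolic (Subtype.val '' (↑J : Set P.S))) z =
      MulAction.fixedBy (G ⧸ P.parabolic (Subtype.val '' (↑J : Set P.S))) (1 : G) := by
    ext x
    simp only [MulAction.mem_fixedBy, one_smul]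
    refine iff_of_true ?_ trivial
    induction x using QuotientGroup.induction_on with
    | _ g =>
      show (QuotientGroup.mk (z * g) : G ⧸ _) = QuotientGroup.mk g
      rw [eq_comm, QuotientGroup.eq]
      have e : g⁻¹ * (z * g) = z := by
        rw [← Subgroup.mem_center_iff.mp hz g]
        group
      rw [e]
      exact (le_sup_left : P.B ≤ P.parabolic _) hzB
  rw [hfix]

end Cfsg.Agent.Helper19.StBN
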