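import Cfsg.Agent.Helper19.StBN.Abstract

/-!
# A criterion for a generator to be a right descent, in a `(B, N)`-pair
-/

set_option autoImplicit false
set_option maxRecDepth 100000

namespace Cfsg.Agent.Helper19.StBN

open Cfsg Cfsg.Agent.Helper6 Cfsg.Agent.Helper18 Cfsg.Agent.Helper19.Cox Cfsg.Agent.Helper19.Poinc
  Cfsg.Agent.Helper19.Stein DoubleCoset

variable {G : Type*} [Group G] (P : Cfsg.BNPair G)

/-- the generators of the Weyl group are non-trivial -/
theorem wf_ne_one (s : P.S) : wf P s ≠ 1 := by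
  intro h
  have hE := exchData_wf P
  have := hE.ne s 1
  rw [mul_one, h] at this
  exact this rfl

/-- if `n B s` meets `B n B` then `s` is a right descent of the class of `n` -/
theorem wl_mul_lt_of_mem_dc {n : G} (hn : n ∈ P.N) (s : P.S) {b : G} (hb : b ∈ P.B)
    (h : n * b * s.1 ∈ dc P n) :
    wl (wf P) (mkW P n hn * wf P s) < wl (wf P) (mkW P n hn) := by
  have hE := exchData_wf P
  by_contra hlt
  have hne := wl_mul_ne' hE s (mkW P n hn)
  have hlt' : wl (wf P) (mkW P n hn) < wl (wf P) (mkW P n hn * wf P s) := by omega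
  have h1 : tau P (n * b) = mkW P n hn := by
    rw [tau_mul_B P hb, tau_of_mem_N P hn]
  have h2 := tau_mul_S_of_lt P s (n * b) (by rw [h1]; exact hlt')
  rw [h1, tau_eq P hn h] at h2
  exact wf_ne_one P s (by simpa using h2.symm)

end Cfsg.Agent.Helper19.StBN
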