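import Cfsg.Agent.Helper19.Unip.Final
import Cfsg.Agent.Helper19.StBN.Abstract

/-!
# Steinberg's count of the `p`-elements, for a finite group with a `(B, N)`-pair

Generic part: if for every set `K` of distinguished generators the parabolic subgroup `P_K` with
its own `(B, N)`-pair satisfies the identity `Σ_{J ⊆ K} (-1)^|J| [P_K : P_J] · #unip(P_J) = c`
(`Cfsg.Agent.Helper19.Unip.full_identity`), and the Steinberg degree is `c`, then the number of
elements of `p`-power order is `c²` (Möbius inversion).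
-/

set_option autoImplicit false
set_option maxRecDepth 100000

namespace Cfsg.Agent.Helper19.StBN

open Cfsg Cfsg.Agent.Helper6 Cfsg.Agent.Helper18 Cfsg.Agent.Helper19.Cox
  Cfsg.Agent.Helper19.Poinc Cfsg.Agent.Helper19.Stein Cfsg.Agent.Helper69.UnipSB
  Cfsg.Agent.Helper19.Unip DoubleCoset

section Count

variable {G : Type*} [Group G] (P : Cfsg.BNPair G) {ι : Type*} (g : ι → G)

/-- the generators indexed by a finite set -/
def gens [DecidableEq ι] (K : Finset ι) : Set G := g '' (↑K : Set ι)

variable (hS : Set.range g = P.S)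

include hS in
theorem gens_subset [DecidableEq ι] (K : Finset ι) : gens g K ⊆ P.S := by
  rintro _ ⟨i, _, rfl⟩
  rw [← hS]
  exact ⟨i, rfl⟩

omit [Group G] in
theorem gens_mono [DecidableEq ι] {J K : Finset ι} (h : J ⊆ K) : gens g J ⊆ gens g K :=
  Set.image_mono (Finset.coe_subset.mpr h)

variable (hg : Function.Injective g)

/-- the generators of the `(B, N)`-pair of `P_K` -/
def genK [DecidableEq ι] (K : Finset ι) (x : {x // x ∈ K}) :
    (subBN P (gens g K) (gens_subset P g hS K)).S :=
  ⟨⟨g x.1, Cfsg.Agent.Helper69.UnipSB.closure_le_parabolic P _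
    (Subgroup.subset_closure ⟨x.1, x.2, rfl⟩)⟩, ⟨x.1, x.2, rfl⟩⟩

theorem genK_val [DecidableEq ι] (K : Finset ι) (x : {x // x ∈ K}) :
    (((genK P g hS K x).1 : ↥(P.parabolic (gens g K))) : G) = g x.1 := rfl

include hg in
theorem genK_bijective [DecidableEq ι] (K : Finset ι) : Function.Bijective (genK P g hS K) := by
  constructor
  · intro x y h
    have h1 : g x.1 = g y.1 := by
      rw [← genK_val P g hS K x, ← genK_val P g hS K y, h]
    exact Subtype.ext (hg h1)
  · intro s
    have h1 : ((s.1 : ↥(P.parabolic (gens g K))) : G) ∈ gens g K := s.2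
    obtain ⟨i, hi, hs⟩ := h1
    refine ⟨⟨i, hi⟩, ?_⟩
    apply Subtype.ext
    apply Subtype.ext
    exact hs

/-- the generators of the `(B, N)`-pair of `P_K` are indexed by `K` -/
noncomputable def equivK [DecidableEq ι] (K : Finset ι) :
    {x // x ∈ K} ≃ (subBN P (gens g K) (gens_subset P g hS K)).S :=
  Equiv.ofBijective _ (genK_bijective P g hS hg K)

theorem image_equivK [DecidableEq ι] (K : Finset ι) (J : Finset {x // x ∈ K}) :
    Subtype.val '' (Subtype.val '' ((↑(J.map (equivK P g hS hg K).toEmbedding) :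
      Set (subBN P (gens g K) (gens_subset P g hS K)).S))) =
      gens g (J.map (Function.Embedding.subtype _)) := by
  ext y
  constructor
  · rintro ⟨y', ⟨s, hs, rfl⟩, rfl⟩
    rw [Finset.mem_coe, Finset.mem_map] at hs
    obtain ⟨x, hx, rfl⟩ := hs
    refine ⟨x.1, ?_, rfl⟩
    rw [Finset.mem_coe, Finset.mem_map]
    exact ⟨x, hx, rfl⟩
  · rintro ⟨i, hi, rfl⟩
    rw [Finset.mem_coe, Finset.mem_map] at hi
    obtain ⟨x, hx, rfl⟩ := hi
    refine ⟨(genK P g hS K x).1, ⟨genK P g hS K x, ?_, rfl⟩, rfl⟩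
    rw [Finset.mem_coe, Finset.mem_map]
    exact ⟨x, hx, rfl⟩

include hg in
/-- the identity in `P_K`, transported to subsets of `K` -/
theorem dagger_of_identity [Finite G] [DecidableEq ι] (p : ℕ) (c : ℂ) (K : Finset ι)
    (hid : ∀ [Fintype (subBN P (gens g K) (gens_subset P g hS K)).S],
      ∑ J ∈ (Finset.univ : Finset (subBN P (gens g K) (gens_subset P g hS K)).S).powerset,
        (-1 : ℂ) ^ J.card *
        ((((subBN P (gens g K) (gens_subset P g hS K)).parabolic
            (Subtype.val '' (↑J : Set (subBN P (gens g K) (gens_subset P g hS K)).S))).index : ℂ) *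
          (Nat.card {d : ↥((subBN P (gens g K) (gens_subset P g hS K)).parabolic
            (Subtype.val '' (↑J : Set (subBN P (gens g K) (gens_subset P g hS K)).S))) //
              IsPElt p (d : ↥(P.parabolic (gens g K)))} : ℂ)) = c) :
    ∑ J ∈ K.powerset, (-1 : ℂ) ^ J.card *
      (((Nat.card (P.parabolic (gens g K)) : ℂ) / (Nat.card (P.parabolic (gens g J)) : ℂ)) *
        (up p (P.parabolic (gens g J)) : ℂ)) = c := by
  classical
  have : Fintype (subBN P (gens g K) (gens_subset P g hS K)).S :=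
    Fintype.ofEquiv _ (equivK P g hS hg K)
  rw [← hid]
  rw [Cfsg.Agent.Helper50.UnipU345.sum_powerset_subtype K]
  rw [← Cfsg.Agent.Helper50.UnipU345.sum_powerset_equiv (equivK P g hS hg K)]
  apply Finset.sum_congr rfl
  intro J'' _
  rw [Finset.card_map, Finset.card_map]
  congr 1
  have hle : P.parabolic (gens g (J''.map (Function.Embedding.subtype _))) ≤
      P.parabolic (gens g K) := by
    apply sup_le_sup_left
    apply Subgroup.closure_mono
    apply gens_mono
    intro x hx
    obtain ⟨y, _, rfl⟩ := Finset.mem_map.mp hx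
    exact y.2
  rw [subBN_parabolic, image_equivK, index_subgroupOf_cast hle, up_subgroupOf p hle]

include hS in
theorem gens_univ [Fintype ι] [DecidableEq ι] : gens g (Finset.univ : Finset ι) = P.S := by
  rw [← hS]
  ext y
  constructor
  · rintro ⟨i, -, rfl⟩
    exact ⟨i, rfl⟩
  · rintro ⟨i, rfl⟩
    exact ⟨i, Finset.mem_coe.mpr (Finset.mem_univ _), rfl⟩

include hS in
theorem parabolic_gens_univ [Fintype ι] [DecidableEq ι] :
    P.parabolic (gens g (Finset.univ : Finset ι)) = ⊤ := by
  rw [gens_univ P g hS]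
  unfold Cfsg.BNPair.parabolic
  rw [eq_top_iff, ← P.sup_eq_top]
  apply sup_le le_sup_left
  rw [← P.closure_sup]
  apply sup_le le_sup_right
  exact inf_le_left.trans le_sup_left

include hS in
/-- Steinberg's count by Möbius inversion -/
theorem card_pElts_of_dagger [Finite G] [Fintype ι] [DecidableEq ι] (p : ℕ) (c : ℕ)
    (hdagger : ∀ K : Finset ι, ∑ J ∈ K.powerset, (-1 : ℂ) ^ J.card *
      (((Nat.card (P.parabolic (gens g K)) : ℂ) / (Nat.card (P.parabolic (gens g J)) : ℂ)) *
        (up p (P.parabolic (gens g J)) : ℂ)) = (c : ℂ))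
    (hdeg : ∑ J ∈ (Finset.univ : Finset ι).powerset, (-1 : ℂ) ^ J.card *
      ((P.parabolic (gens g J)).index : ℂ) = (c : ℂ)) :
    Nat.card {x : G // ∃ k : ℕ, orderOf x = p ^ k} = c ^ 2 := by
  classical
  set q : ℂ := (c : ℂ) with hq
  set PK : Finset ι → Subgroup G := fun K => P.parabolic (gens g K) with hPK
  have hcard : ∀ K, (Nat.card (PK K) : ℂ) ≠ 0 := by
    intro K
    have : 0 < Nat.card (PK K) := Nat.card_pos
    exact_mod_cast this.ne'
  have hM := Cfsg.Agent.Helper67.UnipU2.moebius_powerset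
    (fun K => (up p (PK K) : ℂ) / (Nat.card (PK K) : ℂ))
    (fun K => q / (Nat.card (PK K) : ℂ)) (by
      intro K
      have h1 : ∑ J ∈ K.powerset, (-1 : ℂ) ^ J.card *
          (((Nat.card (PK K) : ℂ) / (Nat.card (PK J) : ℂ)) * (up p (PK J) : ℂ)) = q :=
        hdagger K
      rw [eq_div_iff (hcard K), Finset.sum_mul, ← h1]
      apply Finset.sum_congr rfl
      intro J _
      have := hcard J
      field_simp) Finset.univ
  have htop : PK Finset.univ = ⊤ := parabolic_gens_univ P g hS
  have hG : (Nat.card (PK Finset.univ) : ℂ) = (Nat.card G : ℂ) := by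
    rw [htop, Nat.card_congr (Subgroup.topEquiv (G := G)).toEquiv]
  have hGne : (Nat.card G : ℂ) ≠ 0 := by
    have : 0 < Nat.card G := Nat.card_pos
    exact_mod_cast this.ne'
  have hR : ∑ J ∈ (Finset.univ : Finset ι).powerset, (-1 : ℂ) ^ J.card *
      (q / (Nat.card (PK J) : ℂ)) = q * q / (Nat.card G : ℂ) := by
    rw [eq_div_iff hGne, Finset.sum_mul]
    have h2 : q * q = q * ∑ J ∈ (Finset.univ : Finset ι).powerset, (-1 : ℂ) ^ J.card *
        ((PK J).index : ℂ) := by rw [hdeg]
    rw [h2, Finset.mul_sum]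
    apply Finset.sum_congr rfl
    intro J _
    have h3 := Subgroup.index_mul_card (PK J)
    have h4 : ((PK J).index : ℂ) * (Nat.card (PK J) : ℂ) = (Nat.card G : ℂ) := by
      exact_mod_cast h3
    have := hcard J
    rw [← h4]
    field_simp
  rw [hR, hG] at hM
  have hfin : (up p (PK Finset.univ) : ℂ) = q * q := by
    field_simp at hM
    rw [hM]
    ring
  have hup : up p (PK Finset.univ) = Nat.card {x : G // ∃ k : ℕ, orderOf x = p ^ k} := by
    unfold up
    rw [htop]
    exact Nat.card_congr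
      { toFun := fun d => ⟨(d.1 : G), d.2⟩
        invFun := fun d => ⟨⟨d.1, Subgroup.mem_top _⟩, d.2⟩
        left_inv := fun d => rfl
        right_inv := fun d => rfl }
  rw [← hup]
  have : ((up p (PK Finset.univ) : ℕ) : ℂ) = ((c ^ 2 : ℕ) : ℂ) := by
    rw [hfin, hq]
    push_cast
    ring
  exact_mod_cast this

include hS hg in
/-- the degree of the Steinberg character, as a sum over the subsets of the index set -/
theorem degree_sum_of_longest [Finite G] [Fintype ι] [DecidableEq ι] (n₀ : G) (hn₀ : n₀ ∈ P.N)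
    (hmax : MaxR (wf P) (mkW P n₀ hn₀)) (H : Subgroup G)
    (hH : ∀ u ∈ P.B, n₀⁻¹ * u * n₀ ∈ P.B ↔ u ∈ H) :
    ∑ J ∈ (Finset.univ : Finset ι).powerset, (-1 : ℂ) ^ J.card *
      ((P.parabolic (gens g J)).index : ℂ) = ((H.subgroupOf P.B).index : ℂ) := by
  classical
  have hmem : ∀ i, g i ∈ P.S := fun i => by rw [← hS]; exact ⟨i, rfl⟩
  let e : ι ≃ P.S := Equiv.ofBijective (fun i => (⟨g i, hmem i⟩ : P.S)) ⟨by
    intro i j h
    exact hg (congrArg Subtype.val h), by
    rintro ⟨s, hs⟩
    rw [← hS] at hs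
    obtain ⟨i, rfl⟩ := hs
    exact ⟨i, rfl⟩⟩
  have : Fintype P.S := Fintype.ofEquiv _ e
  rw [← stFun_one P n₀ hn₀ hmax H hH, stFun_apply]
  rw [← Cfsg.Agent.Helper50.UnipU345.sum_powerset_equiv e]
  apply Finset.sum_congr rfl
  intro J _
  have hset : Subtype.val '' (↑(J.map e.toEmbedding) : Set P.S) = gens g J := by
    ext y
    constructor
    · rintro ⟨s, hs, rfl⟩
      rw [Finset.mem_coe, Finset.mem_map] at hs
      obtain ⟨i, hi, rfl⟩ := hs
      exact ⟨i, hi, rfl⟩
    · rintro ⟨i, hi, rfl⟩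
      refine ⟨e i, ?_, rfl⟩
      rw [Finset.mem_coe, Finset.mem_map]
      exact ⟨i, hi, rfl⟩
  rw [Finset.card_map, fixedPointCharacter_one, hset]

end Count

end Cfsg.Agent.Helper19.StBN
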